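import Groth.Agent.Lib.PicProj.Abstract
import Groth.Prelude.Def_Twist2
import Groth.Agent.Lib.ProjSpace.Basic
import Groth.Agent.Lib.ProjTilde.QCoh
import Groth.Agent.Lib.PicGen.OpenUFD
import Groth.Agent.Lib.ParaF.Pair

/-!
# The Picard group of projective space over a factorial domain
-/

set_option autoImplicit false
set_option linter.style.haveILetI false
set_option linter.unusedSectionVars false

noncomputable section

universe u

open CategoryTheory AlgebraicGeometry TopologicalSpace Opposite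

namespace Groth.Agent.Lib.PicProj.Main

open Groth.Agent.Lib.TensorMod.Dual Groth.Agent.Lib.TensorMod.Gen
open Groth.Agent.Lib.ProjTilde Groth.Agent.Lib.ProjSpace.Charts Groth.Agent.Lib.ProjSpace.Basic

/-- A variant of `exists_gen_of_iso` for an arbitrary open immersion. -/
theorem exists_gen_opensRange {X Y : Scheme.{u}} {L : X.Modules} (j : Y ⟶ X) [IsOpenImmersion j]
    (i : L.restrict j ≅ Coh.structureModule Y) : ∃ e : Γ(L, j.opensRange), IsGen L j.opensRange e := by
  have hU : j ''ᵁ ⊤ = j.opensRange := Scheme.Hom.image_top_eq_opensRange j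
  let e : Γ(L, j.opensRange) := rs L hU.ge ((L.restrictAppIso j ⊤).hom (i.inv.app ⊤ (one _ ⊤)))
  refine ⟨e, fun V hV => ?_⟩
  obtain ⟨W, rfl⟩ : ∃ W : Y.Opens, j ''ᵁ W = V :=
    ⟨j ⁻¹ᵁ V, by rw [Scheme.Hom.image_preimage_eq_opensRange_inf]; exact inf_eq_right.2 hV⟩
  have key : rs L hV e = (L.restrictAppIso j W).hom (i.inv.app W (one _ W)) := by
    rw [rs_rs]
    exact congrArg (L.restrictAppIso j W).hom (rs_app_one i.inv (le_top (a := W)))
  have h : (fun a : Γ(X, j ''ᵁ W) => a • rs L hV e) ∘ (j.appIso W).inv =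
      ((L.restrictAppIso j W).hom ∘ i.inv.app W :) := by
    funext a
    rw [Function.comp_apply, key, ← restrict_smul]
    exact congrArg (L.restrictAppIso j W).hom (app_eq_smul i.inv a).symm
  refine (Function.Bijective.of_comp_iff _
    (ConcreteCategory.bijective_of_isIso (j.appIso W).inv)).1 ?_
  rw [h]
  exact (ConcreteCategory.bijective_of_isIso (L.restrictAppIso j W).hom).comp
    (ConcreteCategory.bijective_of_isIso (i.inv.app W))

/-- Invertible modules on the spectrum of a factorial domain are trivial. -/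
theorem nonempty_iso_spec {A : Type u} [CommRing A] [IsDomain A] [UniqueFactorizationMonoid A]
    (L : (Spec (CommRingCat.of A)).Modules) (hL : PicF.IsInvertible L) :
    Nonempty (L ≅ Coh.structureModule (Spec (CommRingCat.of A))) := by
  obtain ⟨i⟩ := PicGen.OpenUFD.nonempty_iso (⊤ : (Spec (CommRingCat.of A)).Opens)
    (L.restrict (⊤ : (Spec (CommRingCat.of A)).Opens).ι) (ParaF.Pair.isInvertible_restrict _ hL)
  obtain ⟨e, he⟩ := exists_gen_of_iso i
  exact PicGen.OpenUFD.nonempty_iso_of_gen e he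

variable (n : ℕ) (R : Type u) [CommRing R]

local notation "𝒢" => CohB1.polyGrading n R

/-- The chart `D₊(T_i)`. -/
abbrev U (i : Fin (n + 1)) : (CohB1.ProjSpace n R).Opens := Proj.basicOpen 𝒢 (MvPolynomial.X i)

/-- The functions on a chart. -/
def φ (i : Fin (n + 1)) :
    MvPolynomial {j : Fin (n + 1) // j ≠ i} R →+* Γ(CohB1.ProjSpace n R, U n R i) :=
  (Proj.awayToSection 𝒢 (MvPolynomial.X i)).hom.comp (awayEquiv R i).toRingHom

theorem φ_bijective (i : Fin (n + 1)) : Function.Bijective (φ n R i) := by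
  have h : Function.Bijective (Proj.awayToSection 𝒢 (MvPolynomial.X i)).hom :=
    ConcreteCategory.bijective_of_isIso
      (Proj.basicOpenIsoAway 𝒢 (MvPolynomial.X i) (X_mem_one i) one_pos).hom
  exact h.comp (awayEquiv R i).bijective

/-- The coordinate `T_j / T_i` as a function on `D₊(T_i)`. -/
def crd (i j : Fin (n + 1)) : Γ(CohB1.ProjSpace n R, U n R i) :=
  Proj.awayToSection 𝒢 (MvPolynomial.X i) (coord R i j)

theorem φ_X (i : Fin (n + 1)) (j : {j : Fin (n + 1) // j ≠ i}) :
    φ n R i (MvPolynomial.X j) = crd n R i j.1 := by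
  change Proj.awayToSection 𝒢 _ (awayEquiv R i (MvPolynomial.X j)) = _
  rw [awayEquiv_X]; rfl

variable {n R}

/-- The value of a function at a point, in the localisation there. -/
abbrev fval {W : (CohB1.ProjSpace n R).Opens} (r : Γ(CohB1.ProjSpace n R, W)) (x : W) :
    Twist.Loc 𝒢 x.1 :=
  ((r : Twist.O (𝒜 := 𝒢) (op W)).1 x).val

theorem fun_ext {W : (CohB1.ProjSpace n R).Opens} {r s : Γ(CohB1.ProjSpace n R, W)}
    (h : ∀ x : W, fval r x = fval s x) : r = s :=
  Subtype.ext (funext fun x => HomogeneousLocalization.val_injective _ (h x))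

theorem fval_mul {W : (CohB1.ProjSpace n R).Opens} (r s : Γ(CohB1.ProjSpace n R, W)) (x : W) :
    fval (r * s) x = fval r x * fval s x := HomogeneousLocalization.val_mul _ _

theorem fval_one {W : (CohB1.ProjSpace n R).Opens} (x : W) :
    fval (1 : Γ(CohB1.ProjSpace n R, W)) x = 1 := HomogeneousLocalization.val_one

theorem fval_rf {W V : (CohB1.ProjSpace n R).Opens} (h : V ≤ W) (r : Γ(CohB1.ProjSpace n R, W)) (x : V) :
    fval (rf h r) x = fval r ⟨x.1, h x.2⟩ := rfl

theorem fval_pow {W : (CohB1.ProjSpace n R).Opens} (r : Γ(CohB1.ProjSpace n R, W)) (k : ℕ) (x : W) :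
    fval (r ^ k) x = fval r x ^ k := by
  induction k with
  | zero => rw [pow_zero, pow_zero, fval_one]
  | succ n ih => rw [pow_succ, pow_succ, fval_mul, ih]

/-- `T_i` in the localisation at a point. -/
abbrev A (i : Fin (n + 1)) (y : ProjectiveSpectrum 𝒢) : Twist.Loc 𝒢 y :=
  algebraMap _ _ (MvPolynomial.X i : MvPolynomial (Fin (n + 1)) R)

theorem isUnit_A (i : Fin (n + 1)) (y : ProjectiveSpectrum 𝒢)
    (h : (MvPolynomial.X i : MvPolynomial (Fin (n + 1)) R) ∉ y.asHomogeneousIdeal) : IsUnit (A i y) :=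
  IsLocalization.map_units (Twist.Loc 𝒢 y)
    (⟨MvPolynomial.X i, h⟩ : y.asHomogeneousIdeal.toIdeal.primeCompl)

theorem fval_crd (i j : Fin (n + 1)) (x : U n R i) :
    fval (crd n R i j) x * A i x.1 = A j x.1 := by
  change (Localization.mk (MvPolynomial.X j) ⟨MvPolynomial.X i, x.2⟩ : Twist.Loc 𝒢 x.1) * _ = _
  rw [Localization.mk_eq_mk']
  exact IsLocalization.mk'_spec _ _ _

theorem crd_self (i : Fin (n + 1)) : crd n R i i = 1 := by
  rw [crd, coord_self]
  exact map_one _

theorem basicOpen_crd (i j : Fin (n + 1)) :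
    (CohB1.ProjSpace n R).basicOpen (crd n R i j) = U n R i ⊓ U n R j := by
  have hmem : (MvPolynomial.X j : MvPolynomial (Fin (n + 1)) R) ∈ 𝒢 ((1 : ℕ) • (1 : ℕ)) := X_mem_one _
  have h : crd n R i j = Proj.awayToSection 𝒢 (MvPolynomial.X i)
      (HomogeneousLocalization.Away.mk 𝒢 (X_mem_one i) 1 _ hmem) := by
    refine congrArg _ (HomogeneousLocalization.val_injective _ ?_)
    rw [val_coord, HomogeneousLocalization.Away.val_mk]
    congr 1
    exact Subtype.ext (pow_one _).symm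
  rw [h]
  exact (QCoh.basicOpen_awayToSection (X_mem_one i) 1 _ hmem).trans (Proj.basicOpen_mul 𝒢 _ _)

theorem const_agree (r : R) (i j : Fin (n + 1)) {W : (CohB1.ProjSpace n R).Opens} (hi : W ≤ U n R i)
    (hj : W ≤ U n R j) : rf hi (φ n R i (MvPolynomial.C r)) = rf hj (φ n R j (MvPolynomial.C r)) := by
  refine fun_ext fun x => ?_
  have h : ∀ (k : Fin (n + 1)) (y : U n R k), fval (φ n R k (MvPolynomial.C r)) y =
      algebraMap _ _ (MvPolynomial.C r : MvPolynomial (Fin (n + 1)) R) := fun k y => by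
    rw [show φ n R k (MvPolynomial.C r) = Proj.awayToSection 𝒢 _ (constHom R k r) from
      congrArg (Proj.awayToSection 𝒢 (MvPolynomial.X k)).hom (awayEquiv_C k r)]
    change (Localization.mk (algebraMap R (CohB1.polyGrading n R 0) r).1 _ : Twist.Loc 𝒢 y.1) = _
    rw [← Localization.mk_one_eq_algebraMap]
    rfl
  rw [fval_rf, fval_rf, h, h]

variable [IsDomain R]

theorem prime_X (i : Fin (n + 1)) : Prime (MvPolynomial.X i : MvPolynomial (Fin (n + 1)) R) :=
  MvPolynomial.X_prime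

theorem prime_crd {i j : Fin (n + 1)} (h : j ≠ i) : Prime (crd n R i j) := by
  rw [← φ_X n R i ⟨j, h⟩]
  exact (MulEquiv.prime_iff (RingEquiv.ofBijective _ (φ_bijective n R i)).toMulEquiv).mpr
    MvPolynomial.X_prime

/-- The point `T_k = 0`. -/
theorem exists_point {k i : Fin (n + 1)} (hik : i ≠ k) :
    ∃ x : CohB1.ProjSpace n R, x ∉ U n R k ∧ ∀ j, j ≠ k → x ∈ U n R j := by
  classical
  let I : Ideal (MvPolynomial (Fin (n + 1)) R) := Ideal.span {MvPolynomial.X k}
  have hI : I.IsHomogeneous 𝒢 := Ideal.homogeneous_span 𝒢 _ fun x hx => by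
    rw [Set.mem_singleton_iff.1 hx]; exact ⟨1, X_mem_one k⟩
  have hp : I.IsPrime := (Ideal.span_singleton_prime (MvPolynomial.X_ne_zero k)).2 (prime_X k)
  have hn : ∀ j, j ≠ k → (MvPolynomial.X j : MvPolynomial (Fin (n + 1)) R) ∉ I := fun j hj hm => by
    rw [Ideal.mem_span_singleton, MvPolynomial.X_dvd_X] at hm
    exact hj hm.symm
  refine ⟨⟨⟨I, hI⟩, hp, fun h => hn i hik (h ?_)⟩, fun h => h (Ideal.mem_span_singleton_self _),
    fun j hj => hn j hj⟩
  show MvPolynomial.X i ∈ HomogeneousIdeal.irrelevant 𝒢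
  exact DirectSum.decompose_of_mem_ne 𝒢 (X_mem_one i) one_ne_zero

theorem genericPoint_mem (i : Fin (n + 1)) : genericPoint ↥(CohB1.ProjSpace n R) ∈ U n R i :=
  ((genericPoint_spec ↥(CohB1.ProjSpace n R)).mem_open_set_iff (U n R i).2).2
    ⟨zeroPoint n R, trivial, fun h => MvPolynomial.X_ne_zero i
      (show (MvPolynomial.X i : MvPolynomial (Fin (n + 1)) R) = 0 from h)⟩

variable (n R) in
/-- The standard charts, with `T_0` distinguished. -/
def charts : Abstract.Charts (CohB1.ProjSpace n R) (Fin (n + 1)) where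
  U := U n R
  i₀ := 0
  f i := crd n R i 0
  hcov := iSup_basicOpen_X_eq_top n R
  aff i := Proj.isAffineOpen_basicOpen 𝒢 _ (X_mem_one i) one_pos
  mem i := genericPoint_mem i
  hbasic i := (basicOpen_crd i 0).trans (inf_comm _ _)
  f₀ := crd_self 0

theorem exists_std [UniqueFactorizationMonoid R] (L : (CohB1.ProjSpace n R).Modules)
    (hL : PicF.IsInvertible L) :
    ∃ (d : ℤ) (e : ∀ i, Γ(L, U n R i)), Abstract.Std (charts n R) L d e := by
  refine Abstract.exists_std (charts n R) (fun i hi => prime_crd (Ne.symm hi)) (fun i j hi hj => ?_)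
    (fun i j hi hj => ?_) L (fun i => ?_)
  · refine ⟨rf inf_le_left (crd n R i j), ?_, fun_ext fun x => ?_⟩
    · have key : ∀ (W : (CohB1.ProjSpace n R).Opens) (hW : W ≤ U n R i),
          W = (CohB1.ProjSpace n R).basicOpen (crd n R i j) → IsUnit (rf hW (crd n R i j)) := by
        rintro W hW rfl
        exact RingedSpace.isUnit_res_basicOpen _ (crd n R i j)
      exact key _ _ (basicOpen_crd i j).symm
    · refine (isUnit_A i x.1 x.2.1).mul_right_cancel ?_
      refine (fval_crd i 0 ⟨x.1, x.2.1⟩).trans ?_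
      refine (fval_crd j 0 ⟨x.1, x.2.2⟩).symm.trans ?_
      refine Eq.trans ?_ (congrArg (· * A i x.1) (fval_mul _ _ x)).symm
      refine (congrArg (fval (crd n R j 0) ⟨x.1, x.2.2⟩ * ·) (fval_crd i j ⟨x.1, x.2.1⟩).symm).trans ?_
      exact (mul_left_comm _ _ _).trans (mul_assoc _ _ _).symm
  · obtain ⟨x, hx0, hx⟩ := exists_point (n := n) (R := R) (k := 0) (i := i) hi
    exact ⟨x, ⟨hx i hi, hx j hj⟩, hx0⟩
  · obtain ⟨iso⟩ := nonempty_iso_spec (L.restrict (chartι R i)) (ParaF.Pair.isInvertible_restrict _ hL)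
    obtain ⟨e, he⟩ := exists_gen_opensRange (chartι R i) iso
    have hgen : ∀ (W : (CohB1.ProjSpace n R).Opens), W = (chartι R i).opensRange →
        ∃ e : Γ(L, W), IsGen L W e := by
      rintro W rfl
      exact ⟨e, he⟩
    exact hgen _ (opensRange_chartι R i).symm

/-- The generator `T_i ^ d` of `O(d)` on a chart. -/
def gen (d : ℤ) (i : Fin (n + 1)) : Γ(Twist.twistProjSpace n R d, U n R i) :=
  (Basic.twistEquiv (U n R i)).symm
    (Frac.fracSec (ℳ := 𝒢) (U n R i) (j := (-d).toNat) (s := MvPolynomial.X i ^ (-d).toNat)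
      (a := MvPolynomial.X i ^ d.toNat)
      (by simpa using SetLike.pow_mem_graded (-d).toNat (X_mem_one (R := R) i))
      (Frac.Deg.of_mem (ℳ := 𝒢) (i := d.toNat)
        (by simpa using SetLike.pow_mem_graded d.toNat (X_mem_one (R := R) i)) (Or.inl (by omega)))
      fun x hx h => hx (x.isPrime.mem_of_pow_mem _ h))

/-- The value of a section of `O(d)` at a point. -/
abbrev sval {d : ℤ} {W : (CohB1.ProjSpace n R).Opens} (σ : Γ(Twist.twistProjSpace n R d, W)) (x : W) :
    Twist.Loc 𝒢 x.1 :=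
  (((σ : Twist.sectN (𝒜 := 𝒢) d (op W))).1 x : Twist.twistAt 𝒢 d x.1).1

theorem sect_ext {d : ℤ} {W : (CohB1.ProjSpace n R).Opens} {σ τ : Γ(Twist.twistProjSpace n R d, W)}
    (h : ∀ x : W, sval σ x = sval τ x) : σ = τ :=
  Subtype.ext (funext fun x => Subtype.ext (h x))

theorem sval_smul {d : ℤ} {W : (CohB1.ProjSpace n R).Opens} (r : Γ(CohB1.ProjSpace n R, W))
    (σ : Γ(Twist.twistProjSpace n R d, W)) (x : W) : sval (r • σ) x = fval r x * sval σ x :=
  Twist.coe_smul_val d x.1 _ _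

theorem sval_rs {d : ℤ} {W V : (CohB1.ProjSpace n R).Opens} (h : V ≤ W)
    (σ : Γ(Twist.twistProjSpace n R d, W)) (x : V) : sval (rs _ h σ) x = sval σ ⟨x.1, h x.2⟩ := rfl

theorem sval_gen (d : ℤ) (i : Fin (n + 1)) (x : U n R i) :
    sval (gen d i) x * A i x.1 ^ (-d).toNat = A i x.1 ^ d.toNat := by
  have h := Basic.val_twistToTilde (gen (n := n) (R := R) d i) x
  rw [show Basic.twistToTilde (gen (n := n) (R := R) d i) = _ from
    (Basic.twistEquiv (U n R i)).apply_symm_apply _] at h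
  replace h := (Frac.val_fracSec (ℳ := 𝒢) _ _ _ _ x).symm.trans h
  change (((gen d i : Twist.sectN (𝒜 := 𝒢) d (op (U n R i)))).1 x : Twist.twistAt 𝒢 d x.1).1 * _ = _
  rw [← h, ← map_pow, ← map_pow]
  change (Localization.mk _ _ : Twist.Loc 𝒢 x.1) * _ = _
  rw [Localization.mk_eq_mk']
  exact IsLocalization.mk'_spec _ _ _

theorem isGen_gen (d : ℤ) (i : Fin (n + 1)) :
    IsGen (Twist.twistProjSpace n R d) (U n R i) (gen d i) := by
  intro W hW
  let c : MvPolynomial (Fin (n + 1)) R := MvPolynomial.X i ^ d.toNat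
  let e : MvPolynomial (Fin (n + 1)) R := MvPolynomial.X i ^ (-d).toNat
  have hc : c ∈ 𝒢 d.toNat := by simpa using SetLike.pow_mem_graded d.toNat (X_mem_one (R := R) i)
  have he : e ∈ 𝒢 (-d).toNat := by
    simpa using SetLike.pow_mem_graded (-d).toNat (X_mem_one (R := R) i)
  have hU : W ≤ Proj.basicOpen 𝒢 (c * e) := fun x hx h =>
    (x.isPrime.mem_or_mem h).elim (fun h => hW hx (x.isPrime.mem_of_pow_mem _ h))
      (fun h => hW hx (x.isPrime.mem_of_pow_mem _ h))
  have h : (fun a : Γ(CohB1.ProjSpace n R, W) => a • rs (Twist.twistProjSpace n R d) hW (gen d i)) =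
      (Basic.twistEquiv W).symm ∘ Basic.mulEquiv (n := 0) (n' := d) hc he (by omega) hU ∘
        Basic.ofFun := by
    funext a
    refine ((Basic.twistEquiv W).eq_symm_apply).2 (Frac.sect_ext fun x => ?_)
    change sval (a • rs _ hW (gen d i)) x = _
    refine (sval_smul a _ x).trans ?_
    refine (congrArg (fval a x * ·) (sval_rs hW (gen d i) x)).trans ?_
    have he' : e ∉ x.1.asHomogeneousIdeal := fun h => hW x.2 (x.1.isPrime.mem_of_pow_mem _ h)
    change _ = Basic.unitAt x.1 c e he' * fval a x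
    rw [mul_comm]
    congr 1
    let y : ProjectiveSpectrum 𝒢 := x.1
    change _ = Localization.mk c (⟨e, he'⟩ : y.asHomogeneousIdeal.toIdeal.primeCompl)
    rw [Localization.mk_eq_mk']
    refine IsLocalization.eq_mk'_iff_mul_eq.2 ?_
    refine (congrArg (_ * ·) (map_pow _ _ _)).trans ?_
    exact (sval_gen d i ⟨x.1, hW x.2⟩).trans (map_pow _ _ _).symm
  rw [h]
  exact (Basic.twistEquiv W).symm.bijective.comp ((AddEquiv.bijective _).comp
    ⟨Basic.ofFun_injective, Basic.ofFun_surjective⟩)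

theorem transition_aux {K : Type u} [CommRing K] {g0 g1 w t A0 A1 : K} {a b : ℕ}
    (hA0 : IsUnit A0) (hA1 : IsUnit A1) (h0 : g0 * A0 ^ b = A0 ^ a) (h1 : g1 * A1 ^ b = A1 ^ a)
    (ht : t * A0 = A1) (hw : w * t ^ b = t ^ a) : g1 = w * g0 := by
  refine ((hA1.pow b).mul (hA0.pow b)).mul_right_cancel ?_
  rw [← mul_assoc, h1, show w * g0 * (A1 ^ b * A0 ^ b) = w * A1 ^ b * (g0 * A0 ^ b) by ring, h0,
    ← ht, mul_pow, mul_pow, ← hw]
  ring

theorem std_gen (d : ℤ) :
    Abstract.Std (charts n R) (Twist.twistProjSpace n R d) d (fun i => gen d i) := by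
  refine ⟨fun i => isGen_gen d i, fun i => sect_ext fun x => ?_⟩
  refine (sval_rs _ _ x).trans (Eq.trans ?_ (sval_smul _ _ x).symm)
  refine Eq.trans ?_ (congrArg (_ * ·) (sval_rs _ _ x)).symm
  have ht : fval (rf (inf_le_right : U n R 0 ⊓ U n R i ≤ U n R i) (crd n R i 0)) x * A i x.1 = A 0 x.1 := by
    exact fval_crd i 0 ⟨x.1, x.2.2⟩
  refine transition_aux (isUnit_A i x.1 x.2.2) (isUnit_A 0 x.1 x.2.1)
    (sval_gen d i ⟨x.1, x.2.2⟩) (sval_gen d 0 ⟨x.1, x.2.1⟩) ht ?_
  refine (congrArg (_ * ·) (fval_pow _ _ x).symm).trans (Eq.trans ?_ (fval_pow _ _ x))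
  refine (fval_mul _ _ x).symm.trans (congrArg (fval · x) ?_)
  have h1 := Abstract.up_natCast (charts n R) i (-d).toNat
  have h2 := Abstract.up_natCast (charts n R) i d.toNat
  change Abstract.up (charts n R) i d * _ = _
  refine (congrArg (_ * ·) h1.symm).trans (((Abstract.up_add _ _ _ _).symm.trans ?_).trans h2)
  congr 1
  omega

theorem exists_twist_iso [UniqueFactorizationMonoid R] (L : (CohB1.ProjSpace n R).Modules)
    (hL : PicF.IsInvertible L) : ∃ d : ℤ, Nonempty (L ≅ Twist.twistProjSpace n R d) := by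
  obtain ⟨d, e, he⟩ := exists_std L hL
  exact ⟨d, Abstract.nonempty_iso_of_std _ he (std_gen d)⟩

theorem twist_iso_unique (hn : 1 ≤ n) {d d' : ℤ}
    (ψ : Twist.twistProjSpace n R d ≅ Twist.twistProjSpace n R d') : d = d' := by
  obtain ⟨i, hi⟩ : ∃ i : Fin (n + 1), i ≠ 0 := ⟨⟨1, by omega⟩, fun h => by simpa using congrArg Fin.val h⟩
  refine Abstract.exponent_unique (charts n R) (i := i) (prime_crd (Ne.symm hi)) (fun a ha => ?_)
    (std_gen d) (std_gen d') ψ
  obtain ⟨p, rfl⟩ := (φ_bijective n R 0).2 a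
  have hp : IsUnit p := by
    let E := RingEquiv.ofBijective _ (φ_bijective n R 0)
    have := ha.map E.symm
    exact (E.symm_apply_apply p) ▸ this
  obtain ⟨r, hr, rfl⟩ := MvPolynomial.isUnit_iff_eq_C_of_isReduced.1 hp
  exact ⟨φ n R i (MvPolynomial.C r), ((hr.map MvPolynomial.C)).map (φ n R i), const_agree r 0 i _ _⟩

end Groth.Agent.Lib.PicProj.Main
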