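import Groth.Agent.Lib.TensorMod.HomGlue
import Mathlib.AlgebraicGeometry.FunctionField

/-!
# Invertible modules trivialised on charts with prime complements of a distinguished chart
-/

set_option autoImplicit false
set_option linter.style.haveILetI false

noncomputable section

universe u

open CategoryTheory AlgebraicGeometry TopologicalSpace Opposite

namespace Groth.Agent.Lib.PicProj.Abstract

open Groth.Agent.Lib.TensorMod Groth.Agent.Lib.TensorMod.Dual Groth.Agent.Lib.TensorMod.Gen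

/-- Charts `U i` such that the distinguished chart `U i₀` meets `U i` in the locus where `f i` is
invertible. -/
structure Charts (X : Scheme.{u}) [IsIntegral X] (ι : Type) where
  U : ι → X.Opens
  i₀ : ι
  f : ∀ i, Γ(X, U i)
  hcov : iSup U = ⊤
  aff : ∀ i, IsAffineOpen (U i)
  mem : ∀ i, genericPoint ↥X ∈ U i
  hbasic : ∀ i, X.basicOpen (f i) = U i₀ ⊓ U i
  f₀ : f i₀ = 1

variable {X : Scheme.{u}} [IsIntegral X] {ι : Type} (D : Charts X ι)

theorem isUnit_f (i : ι) : IsUnit (rf (inf_le_right : D.U D.i₀ ⊓ D.U i ≤ D.U i) (D.f i)) := by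
  have key : ∀ (W : X.Opens) (hW : W ≤ D.U i), W = X.basicOpen (D.f i) → IsUnit (rf hW (D.f i)) := by
    rintro W hW rfl
    exact RingedSpace.isUnit_res_basicOpen _ (D.f i)
  exact key _ _ (D.hbasic i).symm

/-- Powers of `f i` on the intersection with the distinguished chart. -/
def up (i : ι) (z : ℤ) : Γ(X, D.U D.i₀ ⊓ D.U i) := ↑((isUnit_f D i).unit ^ z)

theorem isUnit_up (i : ι) (z : ℤ) : IsUnit (up D i z) := Units.isUnit _

theorem up_add (i : ι) (a b : ℤ) : up D i (a + b) = up D i a * up D i b := by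
  rw [up, zpow_add, Units.val_mul]; rfl

theorem up_natCast (i : ι) (a : ℕ) :
    up D i (a : ℤ) = rf inf_le_right (D.f i) ^ a := by
  rw [up, zpow_natCast, Units.val_pow_eq_pow_val, IsUnit.unit_spec]

theorem up_zero (i : ι) : up D i 0 = 1 := by rw [up, zpow_zero, Units.val_one]

theorem up_base (z : ℤ) : up D D.i₀ z = 1 := by
  have h : rf (inf_le_right : D.U D.i₀ ⊓ D.U D.i₀ ≤ D.U D.i₀) (D.f D.i₀) = 1 := by
    rw [D.f₀]; exact map_one _
  have h' : (isUnit_f D D.i₀).unit = 1 := Units.ext h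
  rw [up, h', one_zpow, Units.val_one]

theorem rf_injective {i : ι} :
    Function.Injective (rf (inf_le_right : D.U D.i₀ ⊓ D.U i ≤ D.U i)) := by
  haveI : Nonempty (D.U D.i₀ ⊓ D.U i : X.Opens) := ⟨⟨_, D.mem D.i₀, D.mem i⟩⟩
  exact map_injective_of_isIntegral X (homOfLE inf_le_right)

/-- A power of a prime that is a unit is trivial. -/
theorem eq_of_up_eq {i : ι} (hp : Prime (D.f i)) {a b : ℤ}
    {w : Γ(X, D.U i)} (hw : IsUnit w) (h : up D i a = rf inf_le_right w * up D i b) : a = b := by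
  have key : ∀ (k : ℕ) (v : Γ(X, D.U i)), IsUnit v → rf inf_le_right (D.f i) ^ k =
      rf (inf_le_right : D.U D.i₀ ⊓ D.U i ≤ D.U i) v → k = 0 := by
    intro k v hv hk
    rw [← show rf (inf_le_right : D.U D.i₀ ⊓ D.U i ≤ D.U i) (D.f i ^ k) = rf inf_le_right (D.f i) ^ k
      from map_pow _ _ _] at hk
    have := rf_injective D hk
    by_contra hk0
    exact hp.not_isUnit ((isUnit_pow_iff hk0).1 (this ▸ hv))
  obtain ⟨k, hk | hk⟩ := Int.eq_nat_or_neg (a - b)
  · have h1 : up D i (a - b) = rf inf_le_right w := by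
      refine (isUnit_up D i b).mul_right_cancel ?_
      rw [← up_add, sub_add_cancel, h]
    rw [hk, up_natCast] at h1
    have := key k w hw h1
    omega
  · have h1 : rf inf_le_right w * up D i (b - a) = 1 := by
      refine (isUnit_up D i a).mul_right_cancel ?_
      rw [mul_assoc, ← up_add, sub_add_cancel, one_mul, h]
    have h2 : up D i (b - a) = rf inf_le_right (↑hw.unit⁻¹ : Γ(X, D.U i)) := by
      refine (hw.map (X.presheaf.map (homOfLE
        (inf_le_right : D.U D.i₀ ⊓ D.U i ≤ D.U i)).op).hom).mul_left_cancel ?_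
      refine h1.trans ?_
      refine ((map_one (X.presheaf.map (homOfLE
        (inf_le_right : D.U D.i₀ ⊓ D.U i ≤ D.U i)).op).hom).symm.trans ?_).trans (map_mul _ _ _)
      rw [IsUnit.mul_val_inv]
    rw [show b - a = (k : ℤ) by omega, up_natCast] at h2
    have := key k _ (Units.isUnit _) h2
    omega

variable {L M : X.Modules}

/-- Units on the intersection are powers of `f i` times units on `U i`. -/
theorem exists_eq_up {i : ι} (hp : Prime (D.f i))
    {c : Γ(X, D.U D.i₀ ⊓ D.U i)} (hc : IsUnit c) :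
    ∃ (w : Γ(X, D.U i)) (m : ℤ), IsUnit w ∧ c = rf inf_le_right w * up D i m := by
  haveI : Nonempty (D.U i) := ⟨⟨_, D.mem i⟩⟩
  have key : ∀ (W : X.Opens) (hW : W ≤ D.U i), W = X.basicOpen (D.f i) → ∀ b : Γ(X, W),
      ∃ (n : ℕ) (a : Γ(X, D.U i)), b * rf hW (D.f i) ^ n = rf hW a := by
    rintro W hW rfl b
    have hloc := (D.aff i).isLocalization_basicOpen (D.f i)
    obtain ⟨⟨a, _, n, rfl⟩, hb⟩ := IsLocalization.surj (Submonoid.powers (D.f i)) b
    exact ⟨n, a, (congrArg (b * ·) (map_pow _ _ _)).symm.trans hb⟩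
  obtain ⟨n, a, ha⟩ := key _ inf_le_right (D.hbasic i).symm c
  obtain ⟨n', a', ha'⟩ := key _ inf_le_right (D.hbasic i).symm (↑hc.unit⁻¹)
  have hprod : a * a' = D.f i ^ (n + n') := by
    refine rf_injective D ?_
    refine (map_mul _ _ _).trans (Eq.trans ?_ (map_pow _ _ _).symm)
    refine (congr_arg₂ (· * ·) ha ha').symm.trans ?_
    rw [pow_add, mul_mul_mul_comm, IsUnit.mul_val_inv, one_mul]
  obtain ⟨j, -, hj⟩ := (dvd_prime_pow hp (n + n')).1 ⟨a', hprod.symm⟩
  obtain ⟨v, hv⟩ := hj.symm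
  refine ⟨(v : Γ(X, D.U i)), (j : ℤ) - n, v.isUnit, ?_⟩
  refine ((isUnit_f D i).pow n).mul_right_cancel ?_
  rw [mul_assoc, ← up_natCast, ← up_add, sub_add_cancel, up_natCast, up_natCast, ha, ← hv]
  refine (map_mul _ _ _).trans ?_
  rw [mul_comm]
  exact congrArg (_ * ·) (map_pow _ _ _)

/-- Generators in standard position. -/
def Std (L : X.Modules) (d : ℤ) (e : ∀ i, Γ(L, D.U i)) : Prop :=
  (∀ i, IsGen L (D.U i) (e i)) ∧
    ∀ i, rs L (inf_le_left : D.U D.i₀ ⊓ D.U i ≤ D.U D.i₀) (e D.i₀) = up D i d • rs L inf_le_right (e i)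

theorem nonempty_iso_of_std {d : ℤ} {e : ∀ i, Γ(L, D.U i)}
    {g : ∀ i, Γ(M, D.U i)} (he : Std D L d e) (hg : Std D M d g) : Nonempty (L ≅ M) := by
  obtain ⟨φ, -⟩ := HomGlue.exists_iso_of_gen (U := D.U) D.hcov e he.1 g hg.1 fun i j W hi hj c hc => by
    have hle : W ≤ D.U i ⊓ D.U j := le_inf hi hj
    obtain ⟨c₀, hc₀⟩ := (he.1 j (D.U i ⊓ D.U j) inf_le_right).2 (rs L inf_le_left (e i))
    obtain ⟨b₀, hb₀⟩ := (hg.1 j (D.U i ⊓ D.U j) inf_le_right).2 (rs M inf_le_left (g i))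
    simp only at hc₀ hb₀
    have hcW : c = rf hle c₀ := by
      refine (he.1 j W hj).1 ?_
      have h1 := congrArg (rs L hle) hc₀
      rw [rs_smul, rs_rs, rs_rs] at h1
      exact hc.symm.trans h1.symm
    suffices hcb : c₀ = b₀ by
      have h1 := congrArg (rs M hle) hb₀
      rw [rs_smul, rs_rs, rs_rs] at h1
      rw [hcW, hcb, h1]
    let V : X.Opens := D.U D.i₀ ⊓ (D.U i ⊓ D.U j)
    haveI : Nonempty V := ⟨⟨_, D.mem D.i₀, D.mem i, D.mem j⟩⟩
    refine map_injective_of_isIntegral X (homOfLE (inf_le_right : V ≤ D.U i ⊓ D.U j)) ?_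
    have li : V ≤ D.U D.i₀ ⊓ D.U i := inf_le_inf_left _ inf_le_left
    have lj : V ≤ D.U D.i₀ ⊓ D.U j := inf_le_inf_left _ inf_le_right
    let ui := rf li (up D i d)
    let uj := rf lj (up D j d)
    have hrel : ∀ {N : X.Modules} (n : ∀ i, Γ(N, D.U i)), Std D N d n → ∀ {a : Γ(X, D.U i ⊓ D.U j)},
        a • rs N inf_le_right (n j) = rs N inf_le_left (n i) →
          ui * rf (inf_le_right : V ≤ D.U i ⊓ D.U j) a = uj := by
      intro N n hn a ha
      have h1 := congrArg (rs N li) (hn.2 i)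
      have h2 := congrArg (rs N lj) (hn.2 j)
      have h3 := congrArg (rs N (inf_le_right : V ≤ D.U i ⊓ D.U j)) ha
      rw [rs_smul, rs_rs, rs_rs] at h1 h2 h3
      refine (hn.1 j V (inf_le_right.trans inf_le_right)).1 ?_
      simp only
      rw [mul_smul, h3, ← h1, h2]
    have hu : IsUnit ui := (isUnit_up D i d).map (X.presheaf.map (homOfLE li).op).hom
    exact hu.mul_left_cancel ((hrel e he hc₀).trans (hrel g hg hb₀).symm)
  exact ⟨φ⟩

/-- Every family of generators can be moved to standard position. -/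
theorem exists_std 
    (hp : ∀ i, i ≠ D.i₀ → Prime (D.f i))
    (hratio : ∀ i j, i ≠ D.i₀ → j ≠ D.i₀ → ∃ w : Γ(X, D.U i ⊓ D.U j), IsUnit w ∧
      rf (inf_le_left : D.U i ⊓ D.U j ≤ D.U i) (D.f i) = w * rf inf_le_right (D.f j))
    (hout : ∀ i j, i ≠ D.i₀ → j ≠ D.i₀ → ∃ x, x ∈ D.U i ⊓ D.U j ∧ x ∉ D.U D.i₀)
    (L : X.Modules) (hgen : ∀ i, ∃ e : Γ(L, D.U i), IsGen L (D.U i) e) :
    ∃ (d : ℤ) (e : ∀ i, Γ(L, D.U i)), Std D L d e := by
  classical
  choose e he using hgen
  have hone : ∀ i, ∃ (m : ℤ) (e' : Γ(L, D.U i)), IsGen L (D.U i) e' ∧ (i = D.i₀ → e' = e i ∧ m = 0) ∧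
      rs L (inf_le_left : D.U D.i₀ ⊓ D.U i ≤ D.U D.i₀) (e D.i₀) = up D i m • rs L inf_le_right e' := by
    intro i
    by_cases hi : i = D.i₀
    · subst hi
      exact ⟨0, e D.i₀, he _, fun _ => ⟨rfl, rfl⟩, by rw [up_zero, one_smul]⟩
    obtain ⟨c, hc⟩ := (he i (D.U D.i₀ ⊓ D.U i) inf_le_right).2 (rs L inf_le_left (e D.i₀))
    simp only at hc
    obtain ⟨c', hc'⟩ := (he D.i₀ (D.U D.i₀ ⊓ D.U i) inf_le_left).2 (rs L inf_le_right (e i))
    simp only at hc'
    have hcu : IsUnit c := IsUnit.of_mul_eq_one c' <| (he i (D.U D.i₀ ⊓ D.U i) inf_le_right).1 (by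
      simp only
      rw [mul_comm, mul_smul, hc, hc', one_smul])
    obtain ⟨w, m, hw, hcm⟩ := exists_eq_up D (hp i hi) hcu
    refine ⟨m, w • e i, fun W hW => ?_, fun h => absurd h hi, ?_⟩
    · have hwW : IsUnit (rf hW w) := hw.map (X.presheaf.map (homOfLE hW).op).hom
      have h := (he i W hW).comp (hwW.unit.mulRight.bijective)
      convert h using 1
      funext a
      show a • rs L hW (w • e i) = (a * rf hW w) • rs L hW (e i)
      rw [rs_smul, mul_smul]
    · rw [← hc, hcm, rs_smul, smul_smul, mul_comm]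
  choose m e' he' hbase hrel using hone
  have hbase₀ := hbase D.i₀ rfl
  have hm : ∀ i j, i ≠ D.i₀ → j ≠ D.i₀ → m i = m j := by
    suffices ∀ i j, i ≠ D.i₀ → j ≠ D.i₀ → ¬ m j < m i from
      fun i j hi hj => le_antisymm (not_lt.1 (this i j hi hj)) (not_lt.1 (this j i hj hi))
    intro i j hi hj hlt
    obtain ⟨k, hk⟩ : ∃ k : ℕ, m i - m j = k + 1 := ⟨(m i - m j - 1).toNat, by omega⟩
    obtain ⟨w, hw, hwf⟩ := hratio i j hi hj
    obtain ⟨x, hx, hx0⟩ := hout i j hi hj
    obtain ⟨c, hc⟩ := (he' i (D.U i ⊓ D.U j) inf_le_left).2 (rs L inf_le_right (e' j))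
    simp only at hc
    let V : X.Opens := D.U D.i₀ ⊓ (D.U i ⊓ D.U j)
    have li : V ≤ D.U D.i₀ ⊓ D.U i := inf_le_inf_left _ inf_le_left
    have lj : V ≤ D.U D.i₀ ⊓ D.U j := inf_le_inf_left _ inf_le_right
    have lij : V ≤ D.U i ⊓ D.U j := inf_le_right
    let ui : ℤ → Γ(X, V) := fun z => rf li (up D i z)
    let uj : ℤ → Γ(X, V) := fun z => rf lj (up D j z)
    have heq : ui (m i) = uj (m j) * rf lij c := by
      have h1 := congrArg (rs L li) (hrel i)
      have h2 := congrArg (rs L lj) (hrel j)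
      have h3 := congrArg (rs L lij) hc
      rw [rs_smul, rs_rs, rs_rs] at h1 h2 h3
      refine (he' i V (lij.trans inf_le_left)).1 ?_
      simp only
      rw [mul_smul, h3, ← h1, h2]
    have hfi : ui 1 = rf lij w * uj 1 := by
      have h := congrArg (rf lij) hwf
      simp only [ui, uj]
      rw [show (1 : ℤ) = ((1 : ℕ) : ℤ) from rfl, up_natCast, up_natCast, pow_one, pow_one, rf_rf, rf_rf]
      refine Eq.trans ?_ (h.trans ((map_mul _ _ _).trans (congrArg (_ * ·) ?_)))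
      · exact (rf_rf _ _ _).symm
      · exact rf_rf _ _ _
    have hpowi : ∀ z : ℕ, ui (z : ℤ) = ui 1 ^ z := fun z => by
      simp only [ui]
      rw [up_natCast, show (1 : ℤ) = ((1 : ℕ) : ℤ) from rfl, up_natCast, pow_one]
      exact map_pow _ _ _
    have hsplit : ui (m i) = ui (m j) * ui ((k + 1 : ℕ) : ℤ) := by
      simp only [ui]
      refine Eq.trans ?_ (map_mul _ _ _)
      rw [← up_add]
      congr 2
      push_cast; omega
    have hmj : ∀ z : ℤ, ∃ v : Γ(X, D.U i ⊓ D.U j), IsUnit v ∧ ui z = rf lij v * uj z := by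
      intro z
      let F : Γ(X, D.U i ⊓ D.U j) →+* Γ(X, V) := (X.presheaf.map (homOfLE lij).op).hom
      let Gi : Γ(X, D.U D.i₀ ⊓ D.U i) →+* Γ(X, V) := (X.presheaf.map (homOfLE li).op).hom
      let Gj : Γ(X, D.U D.i₀ ⊓ D.U j) →+* Γ(X, V) := (X.presheaf.map (homOfLE lj).op).hom
      let Ai := Units.map Gi.toMonoidHom (isUnit_f D i).unit
      let Aj := Units.map Gj.toMonoidHom (isUnit_f D j).unit
      let B := Units.map F.toMonoidHom hw.unit
      have hA : Ai = B * Aj := Units.ext (by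
        have := hfi
        simp only [ui, uj, up, zpow_one] at this
        exact this)
      refine ⟨↑(hw.unit ^ z), Units.isUnit _, ?_⟩
      have e1 : ui z = ↑(Ai ^ z) := by simp only [Ai, ← map_zpow]; rfl
      have e2 : uj z = ↑(Aj ^ z) := by simp only [Aj, ← map_zpow]; rfl
      have e3 : rf lij (↑(hw.unit ^ z) : Γ(X, D.U i ⊓ D.U j)) = ↑(B ^ z) := by
        simp only [B, ← map_zpow]; rfl
      rw [e1, e2, e3, hA, mul_zpow, Units.val_mul]
    obtain ⟨v, hv, hvz⟩ := hmj (m j)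
    have huj : IsUnit (uj (m j)) := (isUnit_up D j (m j)).map (X.presheaf.map (homOfLE lj).op).hom
    have heq2 : rf lij v * rf lij (rf inf_le_left (D.f i)) ^ (k + 1) = rf lij c := by
      refine huj.mul_left_cancel ?_
      rw [← heq, hsplit, hvz, hpowi]
      have e1 : ui 1 = rf lij (rf inf_le_left (D.f i)) := by
        simp only [ui]
        rw [show (1 : ℤ) = ((1 : ℕ) : ℤ) from rfl, up_natCast, pow_one, rf_rf, rf_rf]
      rw [e1]; ring
    have hcunit : IsUnit c := by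
      obtain ⟨c', hc'⟩ := (he' j (D.U i ⊓ D.U j) inf_le_right).2 (rs L inf_le_left (e' i))
      simp only at hc'
      exact IsUnit.of_mul_eq_one c' <| (he' j (D.U i ⊓ D.U j) inf_le_right).1 (by
        simp only
        rw [mul_smul, hc', hc, one_smul])
    have hb : IsUnit (rf (inf_le_left : D.U i ⊓ D.U j ≤ D.U i) (D.f i)) := by
      haveI : Nonempty V := ⟨⟨_, D.mem D.i₀, D.mem i, D.mem j⟩⟩
      have h3 : v * rf (inf_le_left : D.U i ⊓ D.U j ≤ D.U i) (D.f i) ^ (k + 1) = c := by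
        refine map_injective_of_isIntegral X (homOfLE lij) ?_
        refine (map_mul _ _ _).trans ?_
        rw [map_pow]
        exact heq2
      rw [← h3] at hcunit
      exact (isUnit_pow_iff (Nat.succ_ne_zero k)).1 (isUnit_of_mul_isUnit_right hcunit)
    have hxb : x ∈ X.basicOpen (D.f i) := by
      rw [Scheme.mem_basicOpen _ _ x hx.1]
      have := hb.map (X.presheaf.germ (D.U i ⊓ D.U j) x hx).hom
      rwa [show (X.presheaf.germ (D.U i ⊓ D.U j) x hx).hom (rf inf_le_left (D.f i)) = _ from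
        X.presheaf.germ_res_apply (homOfLE (inf_le_left : D.U i ⊓ D.U j ≤ D.U i)) x hx (D.f i)] at this
    exact hx0 ((D.hbasic i).le hxb).1
  obtain ⟨d, hd⟩ : ∃ d, ∀ i, i ≠ D.i₀ → m i = d := by
    by_cases h : ∃ i, i ≠ D.i₀
    · obtain ⟨i, hi⟩ := h
      exact ⟨m i, fun j hj => hm j i hj hi⟩
    · exact ⟨0, fun i hi => absurd ⟨i, hi⟩ h⟩
  refine ⟨d, e', he', fun i => ?_⟩
  rw [hbase₀.1]
  by_cases hi : i = D.i₀
  · subst hi
    rw [hrel D.i₀, up_base, up_base]
  · rw [hrel i, hd i hi]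

/-- The exponent of generators in standard position is determined. -/
theorem exponent_unique {i : ι} (hp : Prime (D.f i))
    (hconst : ∀ a : Γ(X, D.U D.i₀), IsUnit a → ∃ a' : Γ(X, D.U i), IsUnit a' ∧
      rf (inf_le_left : D.U D.i₀ ⊓ D.U i ≤ D.U D.i₀) a = rf inf_le_right a')
    {d d' : ℤ} {e : ∀ i, Γ(L, D.U i)} {g : ∀ i, Γ(M, D.U i)} (he : Std D L d e) (hg : Std D M d' g)
    (φ : L ≅ M) : d = d' := by
  have hgen : ∀ k, ∃ a : Γ(X, D.U k), IsUnit a ∧ φ.hom.app (D.U k) (e k) = a • g k := by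
    intro k
    obtain ⟨a, ha⟩ := (hg.1 k (D.U k) le_rfl).2 (φ.hom.app (D.U k) (e k))
    obtain ⟨b, hb⟩ := (he.1 k (D.U k) le_rfl).2 (φ.inv.app (D.U k) (g k))
    simp only [rs_self] at ha hb
    refine ⟨a, IsUnit.of_mul_eq_one b ((hg.1 k (D.U k) le_rfl).1 ?_), ha.symm⟩
    simp only [rs_self, one_smul]
    rw [mul_comm, mul_smul, ha, ← Scheme.Modules.Hom.app_smul, hb]
    rw [← ConcreteCategory.comp_apply, ← Scheme.Modules.Hom.comp_app, φ.inv_hom_id]
    rfl
  obtain ⟨a, ha, hae⟩ := hgen D.i₀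
  obtain ⟨b, hb, hbe⟩ := hgen i
  obtain ⟨a', ha', haa⟩ := hconst a ha
  let V := D.U D.i₀ ⊓ D.U i
  have h1 := congrArg (φ.hom.app V) (he.2 i)
  have key : ∀ {k} (hk : V ≤ D.U k) (t : Γ(X, D.U k)), φ.hom.app (D.U k) (e k) = t • g k →
      φ.hom.app V (rs L hk (e k)) = rf hk t • rs M hk (g k) := fun hk t ht => by
    rw [← HomGlue.rs_app, ht, rs_smul]
  rw [Scheme.Modules.Hom.app_smul, key inf_le_left a hae, key inf_le_right b hbe, hg.2 i, smul_smul,
    smul_smul] at h1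
  have h2 : rf (inf_le_left : V ≤ D.U D.i₀) a * up D i d' = up D i d * rf inf_le_right b :=
    (hg.1 i V inf_le_right).1 h1
  rw [haa] at h2
  refine (eq_of_up_eq D hp (w := (↑ha'.unit⁻¹ : Γ(X, D.U i)) * b) ((Units.isUnit _).mul hb) ?_).symm
  refine (ha'.map (X.presheaf.map (homOfLE (inf_le_right : V ≤ D.U i)).op).hom).mul_left_cancel ?_
  refine h2.trans ?_
  rw [← mul_assoc]
  refine (mul_comm _ _).trans (congrArg (· * _) ?_)
  refine Eq.trans ?_ (map_mul _ _ _)
  rw [← mul_assoc, IsUnit.mul_val_inv, one_mul]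

end Groth.Agent.Lib.PicProj.Abstract
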